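import Cfsg.Agent.Lib.Chev.Gen.TabE7
import Cfsg.Agent.Lib.Chev.Checked
/- GENERATED kernel checks for type E7 -/
set_option autoImplicit false
namespace CfsgLib.Chev.E7
theorem deriv0 : derivCheck Cfsg.Lie.chevE7 tabs (Cfsg.Lie.chevE7.simple 0) = true := by decide +kernel
theorem deriv1 : derivCheck Cfsg.Lie.chevE7 tabs (Cfsg.Lie.chevE7.simple 1) = true := by decide +kernel
theorem deriv2 : derivCheck Cfsg.Lie.chevE7 tabs (Cfsg.Lie.chevE7.simple 2) = true := by decide +kernel
theorem deriv3 : derivCheck Cfsg.Lie.chevE7 tabs (Cfsg.Lie.chevE7.simple 3) = true := by decide +kernel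
end CfsgLib.Chev.E7
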