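import Cfsg.Agent.Lib.Chev.Gen.TabE8
import Cfsg.Agent.Lib.Chev.Checked
/- GENERATED kernel checks for type E8 -/
set_option autoImplicit false
namespace CfsgLib.Chev.E8
theorem deriv4 : derivCheck Cfsg.Lie.chevE8 tabs (Cfsg.Lie.chevE8.simple 4) = true := by decide +kernel
end CfsgLib.Chev.E8
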