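import Cfsg.Agent.Lib.Chev.Gen.TabE8
import Cfsg.Agent.Lib.Chev.Gen.DerivE80
import Cfsg.Agent.Lib.Chev.Gen.DerivE81
import Cfsg.Agent.Lib.Chev.Gen.DerivE82
import Cfsg.Agent.Lib.Chev.Gen.DerivE83
import Cfsg.Agent.Lib.Chev.Gen.DerivE84
import Cfsg.Agent.Lib.Chev.Gen.DerivE85
import Cfsg.Agent.Lib.Chev.Gen.DerivE86
import Cfsg.Agent.Lib.Chev.Gen.DerivE87
import Cfsg.Agent.Lib.Chev.Gen.ChkE80
import Cfsg.Agent.Lib.Chev.Gen.ChkE81
import Cfsg.Agent.Lib.Chev.Gen.ChkE82
import Cfsg.Agent.Lib.Chev.Gen.ChkE83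
import Cfsg.Agent.Lib.Chev.Checked
/- GENERATED kernel checks for type E8 -/
set_option autoImplicit false
namespace CfsgLib.Chev.E8
theorem checked : Checked Cfsg.Lie.chevE8 tabs where
  chain := chain_ok
  cartanTab := cartanTab_ok
  shape := shape_ok
  root := root_ok
  lin := lin_ok
  weight := weight_ok
  pow := pow_ok
  theta := theta_ok
  refl := refl_ok
  monomial := monomial_ok
  gen := gen_ok
  deriv := by
    intro i hi
    change i < 8 at hi
    match i, hi with
    | 0, _ => exact deriv0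
    | 1, _ => exact deriv1
    | 2, _ => exact deriv2
    | 3, _ => exact deriv3
    | 4, _ => exact deriv4
    | 5, _ => exact deriv5
    | 6, _ => exact deriv6
    | 7, _ => exact deriv7
    | k + 8, h => omega
end CfsgLib.Chev.E8
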