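import Cfsg.Agent.Lib.Chev.Checks
import Cfsg.Prelude.Def_ChevB2
/- GENERATED packed tables of the datum of type B2 -/
set_option autoImplicit false
namespace CfsgLib.Chev.B2
def rows1_0 : Trie :=
  (.node (.leaf 0xa010027019000000000000000) (.leaf 0x7a00005a04603a026000006))
def rows1_1 : Trie :=
  (.node (.leaf 0x1900005702003602900000a000000) (.leaf 0x6905704a036029017000))
def rows1_2 : Trie :=
  (.leaf 0x2702a069046030000019000006000)
def rows1_3 : Trie :=
  (.leaf 0x3a036000059000040000017000000)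
def rows1_4 : Trie :=
  (.leaf 0x4604a000000069000050000027000)
def rows1_5 : Trie :=
  (.leaf 0x5905600007a00006700006003a017)
def rows1_6 : Trie :=
  (.leaf 0x6700000000007600005704a070029)
def rows1_7 : Trie :=
  (.leaf 0x76000000000000000067059080)
def rows1 : Trie := (.node (.node (.node rows1_0 rows1_4) (.node rows1_2 rows1_6)) (.node (.node rows1_1 rows1_5) (.node rows1_3 rows1_7)))
def rows2_0 : Trie :=
  (.node (.leaf 0x7000000000000000000000) (.leaf 0x0))
def rows2_1 : Trie :=
  (.node (.leaf 0x39017000009000000000000) (.leaf 0x0))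
def rows2_2 : Trie :=
  (.leaf 0x47000027000007000000000)
def rows2_3 : Trie :=
  (.leaf 0x37000000000000)
def rows2_4 : Trie :=
  (.leaf 0x47000000000)
def rows2_5 : Trie :=
  (.leaf 0x77000057000037)
def rows2_6 : Trie :=
  (.leaf 0x79000067049)
def rows2_7 : Trie :=
  (.leaf 0x77)
def rows2 : Trie := (.node (.node (.node rows2_0 rows2_4) (.node rows2_2 rows2_6)) (.node (.node rows2_1 rows2_5) (.node rows2_3 rows2_7)))
def rows3_0 : Trie :=
  (.node (.leaf 0x0) (.leaf 0x0))
def rows3_1 : Trie :=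
  (.node (.leaf 0x0) (.leaf 0x0))
def rows3_2 : Trie :=
  (.leaf 0x0)
def rows3_3 : Trie :=
  (.leaf 0x0)
def rows3_4 : Trie :=
  (.leaf 0x0)
def rows3_5 : Trie :=
  (.leaf 0x0)
def rows3_6 : Trie :=
  (.leaf 0x0)
def rows3_7 : Trie :=
  (.leaf 0x0)
def rows3 : Trie := (.node (.node (.node rows3_0 rows3_4) (.node rows3_2 rows3_6)) (.node (.node rows3_1 rows3_5) (.node rows3_3 rows3_7)))
def rootCoords_0 : Trie :=
  (.leaf 0x7006)
def rootCoords_1 : Trie :=
  (.leaf 0x7007)
def rootCoords_2 : Trie :=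
  (.leaf 0x8007)
def rootCoords_3 : Trie :=
  (.leaf 0x7008)
def rootCoords_4 : Trie :=
  (.leaf 0x9008)
def rootCoords_5 : Trie :=
  (.leaf 0x8009)
def rootCoords_6 : Trie :=
  (.leaf 0x9009)
def rootCoords_7 : Trie :=
  (.leaf 0x900a)
def rootCoords : Trie := (.node (.node (.node rootCoords_0 rootCoords_4) (.node rootCoords_2 rootCoords_6)) (.node (.node rootCoords_1 rootCoords_5) (.node rootCoords_3 rootCoords_7)))
def corootCoords_0 : Trie :=
  (.leaf 0x7007)
def corootCoords_1 : Trie :=
  (.leaf 0x6007)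
def corootCoords_2 : Trie :=
  (.leaf 0x8007)
def corootCoords_3 : Trie :=
  (.leaf 0x7008)
def corootCoords_4 : Trie :=
  (.leaf 0x9008)
def corootCoords_5 : Trie :=
  (.leaf 0x8009)
def corootCoords_6 : Trie :=
  (.leaf 0xa009)
def corootCoords_7 : Trie :=
  (.leaf 0x9009)
def corootCoords : Trie := (.node (.node (.node corootCoords_0 corootCoords_4) (.node corootCoords_2 corootCoords_6)) (.node (.node corootCoords_1 corootCoords_5) (.node corootCoords_3 corootCoords_7)))
/-- the packed tables -/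
def tabs : Tabs := ⟨rows1, rows2, rows3, rootCoords, corootCoords⟩
end CfsgLib.Chev.B2
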