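import Cfsg.Agent.Lib.Chev.Checks
import Cfsg.Agent.Lib.Chev.Gen.TabF4
/- kernel check: for each pair of roots one chain is commutative, and there are no chains of length three -/
set_option autoImplicit false
namespace CfsgLib.Chev.F4
theorem comm_ok : commCheck Cfsg.Lie.chevF4 tabs = true := by decide +kernel
theorem short_ok : (allNat Cfsg.Lie.chevF4.nroots fun a => Nat.beq (tabs.t3.get a) 0) = true := by decide +kernel
end CfsgLib.Chev.F4
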