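import Cfsg.Agent.Lib.Chev.Checks
import Cfsg.Prelude.Def_ChevG2
/- GENERATED packed tables of the datum of type G2 -/
set_option autoImplicit false
namespace CfsgLib.Chev.G2
def rows1_0 : Trie :=
  (.node (.leaf 0x9000010057037029000019000000000000000000) (.leaf 0x870890000000bb00009a00007706b090046000027))
def rows1_1 : Trie :=
  (.node (.leaf 0x1701b067020047000029000009000000000000000) (.leaf 0x970000000000b50a500000008a0760a0049039))
def rows1_2 : Trie :=
  (.node (.leaf 0x2908707703004a03600000001b00b000000000) (.leaf 0xa90a50000000000000000b70000970000790b0059))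
def rows1_3 : Trie :=
  (.node (.leaf 0x3903709900007a040055049000026000005000000) (.leaf 0xb70000000000000000000000a70000970890690c0))
def rows1_4 : Trie :=
  (.node (.leaf 0x4704a00009908606505000003900002a015000000) (.leaf 0xab09908707a06505b046039027015000))
def rows1_5 : Trie :=
  (.node (.leaf 0x5a0550a9000000079000060000037000000007000) (.leaf 0xb90a700008907706a056049037000019007))
def rows1_6 : Trie :=
  (.leaf 0x6606b0000b9000000089000070000047000000017)
def rows1_7 : Trie :=
  (.leaf 0x790760000000ab09600008700008005b03a027000)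
def rows1 : Trie := (.node (.node (.node rows1_0 rows1_4) (.node rows1_2 rows1_6)) (.node (.node rows1_1 rows1_5) (.node rows1_3 rows1_7)))
def rows2_0 : Trie :=
  (.node (.leaf 0x7000000000000000000000000000000000) (.leaf 0xbb000097000087065000049))
def rows2_1 : Trie :=
  (.node (.leaf 0x17000000000000000000000000000000) (.leaf 0xb50ab097089077))
def rows2_2 : Trie :=
  (.node (.leaf 0x4703902701b005000000000000000000000) (.leaf 0xa7000))
def rows2_3 : Trie :=
  (.node (.leaf 0x7900005503700002700000b000000000000) (.leaf 0xb7))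
def rows2_4 : Trie :=
  (.node (.leaf 0x8706b000047000029000015000000000) (.leaf 0x0))
def rows2_5 : Trie :=
  (.node (.leaf 0x57000000000000000000) (.leaf 0x0))
def rows2_6 : Trie :=
  (.leaf 0x67000000000000000)
def rows2_7 : Trie :=
  (.leaf 0xa500009900007700005b037000)
def rows2 : Trie := (.node (.node (.node rows2_0 rows2_4) (.node rows2_2 rows2_6)) (.node (.node rows2_1 rows2_5) (.node rows2_3 rows2_7)))
def rows3_0 : Trie :=
  (.node (.leaf 0x0) (.leaf 0xb7000000000000069))
def rows3_1 : Trie :=
  (.node (.leaf 0x0) (.leaf 0xb70a9))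
def rows3_2 : Trie :=
  (.node (.leaf 0x17009000000000000000000000000000000) (.leaf 0x0))
def rows3_3 : Trie :=
  (.node (.leaf 0x57000000000000009000000000000000000) (.leaf 0x0))
def rows3_4 : Trie :=
  (.node (.leaf 0x69000000000000017000000000000000) (.leaf 0x0))
def rows3_5 : Trie :=
  (.node (.leaf 0x0) (.leaf 0x0))
def rows3_6 : Trie :=
  (.leaf 0x0)
def rows3_7 : Trie :=
  (.leaf 0xa9000000000000057000)
def rows3 : Trie := (.node (.node (.node rows3_0 rows3_4) (.node rows3_2 rows3_6)) (.node (.node rows3_1 rows3_5) (.node rows3_3 rows3_7)))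
def rootCoords_0 : Trie :=
  (.node (.leaf 0x6005) (.leaf 0x9009))
def rootCoords_1 : Trie :=
  (.node (.leaf 0x7005) (.leaf 0x900a))
def rootCoords_2 : Trie :=
  (.node (.leaf 0x7006) (.leaf 0x900b))
def rootCoords_3 : Trie :=
  (.node (.leaf 0x7007) (.leaf 0xa00b))
def rootCoords_4 : Trie :=
  (.leaf 0x8007)
def rootCoords_5 : Trie :=
  (.leaf 0x7008)
def rootCoords_6 : Trie :=
  (.leaf 0x9008)
def rootCoords_7 : Trie :=
  (.leaf 0x8009)
def rootCoords : Trie := (.node (.node (.node rootCoords_0 rootCoords_4) (.node rootCoords_2 rootCoords_6)) (.node (.node rootCoords_1 rootCoords_5) (.node rootCoords_3 rootCoords_7)))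
def corootCoords_0 : Trie :=
  (.node (.leaf 0x6007) (.leaf 0xb009))
def corootCoords_1 : Trie :=
  (.node (.leaf 0x7007) (.leaf 0xb00a))
def corootCoords_2 : Trie :=
  (.node (.leaf 0x5006) (.leaf 0x9009))
def corootCoords_3 : Trie :=
  (.node (.leaf 0x5007) (.leaf 0xa009))
def corootCoords_4 : Trie :=
  (.leaf 0x8007)
def corootCoords_5 : Trie :=
  (.leaf 0x7008)
def corootCoords_6 : Trie :=
  (.leaf 0x9008)
def corootCoords_7 : Trie :=
  (.leaf 0x8009)
def corootCoords : Trie := (.node (.node (.node corootCoords_0 corootCoords_4) (.node corootCoords_2 corootCoords_6)) (.node (.node corootCoords_1 corootCoords_5) (.node corootCoords_3 corootCoords_7)))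
/-- the packed tables -/
def tabs : Tabs := ⟨rows1, rows2, rows3, rootCoords, corootCoords⟩
end CfsgLib.Chev.G2
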