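import Cfsg.Agent.Lib.Chev.CommCheck
import Cfsg.Agent.Lib.Chev.Gen.TabG2
/- kernel check of the commutator formula of G₂ at t = u = 1 -/
set_option autoImplicit false
namespace CfsgLib.Chev.G2
theorem comm_ok : wordCheck Cfsg.Lie.chevG2 tabs = true := by decide +kernel
end CfsgLib.Chev.G2
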