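import Cfsg.Agent.Lib.Chev.Gen.TabG2
import Cfsg.Agent.Lib.Chev.Checked
/- GENERATED kernel checks for type G2 -/
set_option autoImplicit false
namespace CfsgLib.Chev.G2
theorem chain_ok : chainCheck Cfsg.Lie.chevG2 tabs = true := by decide +kernel
theorem cartanTab_ok : cartanCheck Cfsg.Lie.chevG2 tabs = true := by decide +kernel
theorem shape_ok : shapeCheck Cfsg.Lie.chevG2 tabs = true := by decide +kernel
theorem root_ok : rootCheck Cfsg.Lie.chevG2 tabs = true := by decide +kernel
theorem lin_ok : linCheck Cfsg.Lie.chevG2 tabs = true := by decide +kernel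
theorem weight_ok : weightCheck Cfsg.Lie.chevG2 tabs = true := by decide +kernel
theorem pow_ok : powCheck Cfsg.Lie.chevG2 tabs = true := by decide +kernel
theorem theta_ok : thetaCheck Cfsg.Lie.chevG2 tabs = true := by decide +kernel
theorem refl_ok : reflCheck Cfsg.Lie.chevG2 tabs = true := by decide +kernel
theorem monomial_ok : nCheck Cfsg.Lie.chevG2 tabs = true := by decide +kernel
theorem gen_ok : genCheck Cfsg.Lie.chevG2 tabs = true := by decide +kernel
theorem deriv0 : derivCheck Cfsg.Lie.chevG2 tabs (Cfsg.Lie.chevG2.simple 0) = true := by decide +kernel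
theorem deriv1 : derivCheck Cfsg.Lie.chevG2 tabs (Cfsg.Lie.chevG2.simple 1) = true := by decide +kernel
theorem checked : Checked Cfsg.Lie.chevG2 tabs where
  chain := chain_ok
  cartanTab := cartanTab_ok
  shape := shape_ok
  root := root_ok
  lin := lin_ok
  weight := weight_ok
  pow := pow_ok
  theta := theta_ok
  refl := refl_ok
  monomial := monomial_ok
  gen := gen_ok
  deriv := by
    intro i hi
    change i < 2 at hi
    match i, hi with
    | 0, _ => exact deriv0
    | 1, _ => exact deriv1
    | k + 2, h => omega
end CfsgLib.Chev.G2
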